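import Cfsg.Prelude.Def_Transfer
import Cfsg.Agent.Lib.CoprimeAbelian
import Cfsg.Agent.Lib.CoprimeCommutator
import Cfsg.Agent.Lib.CoprimeStab
import Cfsg.Agent.Lib.FrattiniBasic
import Cfsg.Agent.SignalizersComponents.LayerCenter
import Cfsg.Agent.SignalizersComponents.GoldschmidtGen

/-!
# Minimal nontrivial coprime action (the Hall-Higman reduction)

`B` normalises the `p`-group `P`, `A` is a normal `p'`-subgroup of `B`, `[P, A] ≠ 1`, but `A`
centralises every proper `B`-invariant subgroup of `P`.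
-/

set_option autoImplicit false
set_option linter.style.haveILetI false

namespace Cfsg.Agent.H440.MinimalAction

open Subgroup
open scoped commutatorElement
open Cfsg.Agent.SignalizersComponents.GoldschmidtGen (le_normalizer_of_conj_mem
  conj_mem_of_le_normalizer le_normalizer_sup le_normalizer_of_commutator_le)

universe u

variable {X : Type u} [Group X]

/-- A characteristic subgroup of `K`, seen in the whole group, is normalised by whatever
normalises `K`. -/
theorem le_normalizer_map_of_characteristic {A K : Subgroup X}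
    (hAK : A ≤ normalizer (K : Set X)) (R : Subgroup K) [hR : R.Characteristic] :
    A ≤ normalizer ((R.map K.subtype : Subgroup X) : Set X) := by
  apply le_normalizer_of_conj_mem
  rintro a ha _ ⟨r, hr, rfl⟩
  have h2 : R.map (K.normalizerMonoidHom ⟨a, hAK ha⟩).toMonoidHom = R :=
    (characteristic_iff_map_eq.mp hR) (K.normalizerMonoidHom ⟨a, hAK ha⟩)
  have h3 : K.normalizerMonoidHom ⟨a, hAK ha⟩ r ∈ R := by
    have : K.normalizerMonoidHom ⟨a, hAK ha⟩ r ∈
      R.map (K.normalizerMonoidHom ⟨a, hAK ha⟩).toMonoidHom := ⟨r, hr, rfl⟩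
    rwa [h2] at this
  exact ⟨_, h3, rfl⟩

/-- `⁅P, A⁆` is normalised by whatever normalises `P` and `A`. -/
theorem le_normalizer_commutator {B P A : Subgroup X} (hP : B ≤ normalizer (P : Set X))
    (hA : B ≤ normalizer (A : Set X)) : B ≤ normalizer ((⁅P, A⁆ : Subgroup X) : Set X) := by
  apply le_normalizer_of_conj_mem
  intro b hb x hx
  have h1 : ⁅P, A⁆ ≤ ⁅P, A⁆.comap (MulAut.conj b).toMonoidHom := by
    rw [commutator_le]
    intro y hy a ha
    show b * ⁅y, a⁆ * b⁻¹ ∈ ⁅P, A⁆
    have h2 : b * ⁅y, a⁆ * b⁻¹ = ⁅b * y * b⁻¹, b * a * b⁻¹⁆ := by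
      simp only [commutatorElement_def]; group
    rw [h2]
    exact commutator_mem_commutator (conj_mem_of_le_normalizer hP hb hy)
      (conj_mem_of_le_normalizer hA hb ha)
  exact h1 hx

/-- Coprime action of `A` on `P`; `N ≤ P` invariant with `P / N` abelian.  An element of
`[P, A] N` which is fixed by `A` modulo `N` lies in `N`. -/
theorem mem_of_fixed_mod [Finite X] {A P N : Subgroup X} (hAP : A ≤ normalizer (P : Set X))
    (hcop : (Nat.card A).Coprime (Nat.card P)) (hN : N ≤ P) (hAN : A ≤ normalizer (N : Set X))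
    (hPP : ⁅P, P⁆ ≤ N) {x : X} (hx : x ∈ ⁅P, A⁆ ⊔ N) (hfix : ∀ a ∈ A, ⁅x, a⁆ ∈ N) : x ∈ N := by
  have hPY : P ≤ normalizer (N : Set X) := le_normalizer_of_commutator_le hN hPP
  haveI hnorm : (N.subgroupOf (normalizer (N : Set X))).Normal := normal_in_normalizer
  let π : ↥(normalizer (N : Set X)) →* ↥(normalizer (N : Set X)) ⧸
    N.subgroupOf (normalizer (N : Set X)) := QuotientGroup.mk' _
  let P' := (P.subgroupOf (normalizer (N : Set X))).map π
  let A' := (A.subgroupOf (normalizer (N : Set X))).map π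
  have hcomm : ∀ x ∈ P', ∀ y ∈ P', x * y = y * x := by
    rintro _ ⟨x, hx, rfl⟩ _ ⟨y, hy, rfl⟩
    rw [← map_mul, ← map_mul]
    show QuotientGroup.mk' _ _ = QuotientGroup.mk' _ _
    rw [QuotientGroup.mk'_eq_mk']
    refine ⟨⁅y⁻¹, x⁻¹⁆, ?_, ?_⟩
    · apply hPP
      exact commutator_mem_commutator (inv_mem hy) (inv_mem hx)
    · simp only [commutatorElement_def]; group
  have hAP' : A' ≤ normalizer (P' : Set _) := by
    apply le_normalizer_of_conj_mem
    rintro _ ⟨a, ha, rfl⟩ _ ⟨y, hy, rfl⟩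
    refine ⟨a * y * a⁻¹, ?_, by rw [map_mul, map_mul, map_inv]⟩
    exact conj_mem_of_le_normalizer hAP ha hy
  have hc : ∀ K : Subgroup X, K ≤ normalizer (N : Set X) →
      Nat.card ((K.subgroupOf (normalizer (N : Set X))).map π) ∣ Nat.card K := by
    intro K hK
    refine (card_map_dvd _ π).trans ?_
    rw [Nat.card_congr (subgroupOfEquivOfLe hK).toEquiv]
  have hcop' : (Nat.card A').Coprime (Nat.card P') :=
    Nat.Coprime.coprime_dvd_left (hc A hAN) (Nat.Coprime.coprime_dvd_right (hc P hPY) hcop)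
  have key := Lib.CoprimeAbelian.inf_commutator_eq_bot A' P' hcomm hAP' hcop'
  have hle : ⁅P, A⁆ ⊔ N ≤ (⁅P', A'⁆.comap π).map (normalizer (N : Set X)).subtype := by
    refine sup_le ?_ ?_
    · rw [commutator_le]
      intro y hy a ha
      refine ⟨⁅(⟨y, hPY hy⟩ : ↥(normalizer (N : Set X))), ⟨a, hAN ha⟩⁆, ?_, rfl⟩
      show π _ ∈ ⁅P', A'⁆
      rw [map_commutatorElement]
      exact commutator_mem_commutator ⟨⟨y, hPY hy⟩, hy, rfl⟩ ⟨⟨a, hAN ha⟩, ha, rfl⟩
    · intro n hn
      refine ⟨⟨n, hPY (hN hn)⟩, ?_, rfl⟩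
      show π _ ∈ ⁅P', A'⁆
      have h1 : π ⟨n, hPY (hN hn)⟩ = 1 := (QuotientGroup.eq_one_iff _).mpr hn
      rw [h1]; exact one_mem _
  obtain ⟨y, hy, rfl⟩ := hle hx
  have hyP : (y : X) ∈ P := by
    have h1 : ⁅P, A⁆ ⊔ N ≤ P := sup_le (Lib.CoprimeCommutator.commutator_le_left hAP) hN
    exact h1 hx
  have h1 : π y ∈ (P' ⊓ centralizer (A' : Set _)) ⊓ ⁅P', A'⁆ := by
    refine ⟨⟨⟨y, hyP, rfl⟩, ?_⟩, hy⟩
    refine mem_centralizer_iff.mpr ?_
    rintro _ ⟨a, ha, rfl⟩
    rw [← map_mul, ← map_mul]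
    show QuotientGroup.mk' _ _ = QuotientGroup.mk' _ _
    rw [QuotientGroup.mk'_eq_mk']
    refine ⟨⁅y⁻¹, a⁻¹⁆, ?_, ?_⟩
    · rw [mem_subgroupOf]
      have h2 : (y : X)⁻¹ * ⁅(y : X), (a : X)⁻¹⁆⁻¹ * ((y : X)⁻¹)⁻¹ ∈ N := by
        apply conj_mem_of_le_normalizer hPY (inv_mem hyP)
        exact inv_mem (hfix _ (inv_mem ha))
      have h3 : (y : X)⁻¹ * ⁅(y : X), (a : X)⁻¹⁆⁻¹ * ((y : X)⁻¹)⁻¹ =
          ((⁅y⁻¹, a⁻¹⁆ : ↥(normalizer (N : Set X))) : X) := by
        simp only [commutatorElement_def, Subgroup.coe_inv, Subgroup.coe_mul]; group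
      rw [← h3]; exact h2
    · simp only [commutatorElement_def]; group
  rw [key, mem_bot] at h1
  exact (QuotientGroup.eq_one_iff (N := N.subgroupOf (normalizer (N : Set X))) y).mp h1

/-- The elements `x ∈ P` with `x ^ p = 1` generate an invariant subgroup. -/
theorem le_normalizer_closure_pow {B P : Subgroup X} (p : ℕ) (hP : B ≤ normalizer (P : Set X)) :
    B ≤ normalizer ((closure {x : X | x ∈ P ∧ x ^ p = 1} : Subgroup X) : Set X) := by
  apply le_normalizer_of_conj_mem
  intro b hb x hx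
  have h1 : closure {x : X | x ∈ P ∧ x ^ p = 1} ≤
      (closure {x : X | x ∈ P ∧ x ^ p = 1}).comap (MulAut.conj b).toMonoidHom := by
    rw [closure_le]
    rintro y ⟨hy, hyp⟩
    apply Subgroup.subset_closure
    refine ⟨conj_mem_of_le_normalizer hP hb hy, ?_⟩
    show (b * y * b⁻¹) ^ p = 1
    rw [conj_pow, hyp]; group
  exact h1 hx

section Main

variable [Finite X] {p : ℕ} [hp : Fact p.Prime] {B A P : Subgroup X}

/-- `[P, A] = P`. -/
theorem commutator_eq (hP : IsPGroup p P) (hBP : B ≤ normalizer (P : Set X)) (hAB : A ≤ B)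
    (hAn : B ≤ normalizer (A : Set X)) (hAp : (Nat.card A).Coprime p) (hnt : ⁅P, A⁆ ≠ ⊥)
    (hmin : ∀ U : Subgroup X, U < P → B ≤ normalizer (U : Set X) → ⁅U, A⁆ = ⊥) : ⁅P, A⁆ = P := by
  have hAP : A ≤ normalizer (P : Set X) := hAB.trans hBP
  have hcop : (Nat.card A).Coprime (Nat.card P) := by
    obtain ⟨n, hn⟩ := IsPGroup.iff_card.mp hP
    rw [hn]; exact Nat.Coprime.pow_right n hAp
  by_contra hne
  have h1 := hmin ⁅P, A⁆ (lt_of_le_of_ne (Lib.CoprimeCommutator.commutator_le_left hAP) hne)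
    (le_normalizer_commutator hBP hAn)
  rw [Lib.CoprimeCommutator.commutator_commutator_eq A P hAP hcop] at h1
  exact hnt h1

theorem coprime_card (hP : IsPGroup p P) (hAp : (Nat.card A).Coprime p) :
    (Nat.card A).Coprime (Nat.card P) := by
  obtain ⟨n, hn⟩ := IsPGroup.iff_card.mp hP
  rw [hn]; exact Nat.Coprime.pow_right n hAp

/-- The elements of `P` fixed by `A` modulo an invariant `N ≥ [P, P]` lie in `N`. -/
theorem mem_of_fixed (hP : IsPGroup p P) (hBP : B ≤ normalizer (P : Set X)) (hAB : A ≤ B)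
    (hAp : (Nat.card A).Coprime p) (hPA : ⁅P, A⁆ = P)
    {N : Subgroup X} (hN : N ≤ P) (hBN : B ≤ normalizer (N : Set X)) (hPP : ⁅P, P⁆ ≤ N) {x : X}
    (hx : x ∈ P) (hfix : ∀ a ∈ A, ⁅x, a⁆ ∈ N) : x ∈ N :=
  mem_of_fixed_mod (hAB.trans hBP) (coprime_card hP hAp) hN (hAB.trans hBN) hPP
    (mem_sup_left (by rw [hPA]; exact hx)) hfix

/-- An invariant subgroup between `N ≥ [P, P]` and `P` is `N` or `P`. -/
theorem eq_or_eq (hP : IsPGroup p P) (hBP : B ≤ normalizer (P : Set X)) (hAB : A ≤ B)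
    (hAp : (Nat.card A).Coprime p) (hPA : ⁅P, A⁆ = P)
    (hmin : ∀ U : Subgroup X, U < P → B ≤ normalizer (U : Set X) → ⁅U, A⁆ = ⊥)
    {N : Subgroup X} (hN : N ≤ P) (hBN : B ≤ normalizer (N : Set X)) (hPP : ⁅P, P⁆ ≤ N)
    {U : Subgroup X} (hNU : N ≤ U) (hUP : U ≤ P) (hBU : B ≤ normalizer (U : Set X)) :
    U = N ∨ U = P := by
  by_cases h : U = P
  · exact Or.inr h
  · left
    have h1 := hmin U (lt_of_le_of_ne hUP h) hBU
    refine le_antisymm (fun x hx => ?_) hNU
    refine mem_of_fixed hP hBP hAB hAp hPA hN hBN hPP (hUP hx) fun a ha => ?_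
    have h2 : ⁅x, a⁆ ∈ ⁅U, A⁆ := commutator_mem_commutator hx ha
    rw [h1, mem_bot] at h2
    rw [h2]; exact one_mem _

omit [Finite X] in
/-- A proper subgroup of `P` invariant under `B` and `P` is centralised by `P`. -/
theorem le_centralizer (hPA : ⁅P, A⁆ = P)
    (hmin : ∀ U : Subgroup X, U < P → B ≤ normalizer (U : Set X) → ⁅U, A⁆ = ⊥)
    {N : Subgroup X} (hN : N < P) (hBN : B ≤ normalizer (N : Set X))
    (hPN : P ≤ normalizer (N : Set X)) : N ≤ centralizer (P : Set X) := by
  have h1 := hmin N hN hBN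
  have h2 : ⁅⁅A, N⁆, P⁆ = ⊥ := by
    rw [commutator_comm A N, h1, commutator_bot_left]
  have h3 : ⁅⁅N, P⁆, A⁆ = ⊥ := by
    rw [eq_bot_iff, ← h1]
    apply commutator_mono _ le_rfl
    rw [commutator_le]
    intro n hn y hy
    have h4 : ⁅n, y⁆ = n * (y * n⁻¹ * y⁻¹) := by simp only [commutatorElement_def]; group
    rw [h4]
    exact mul_mem hn (conj_mem_of_le_normalizer hPN hy (inv_mem hn))
  have h4 : ⁅⁅P, A⁆, N⁆ = ⊥ := commutator_commutator_eq_bot_of_rotate h2 h3
  rw [hPA, commutator_eq_bot_iff_le_centralizer] at h4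
  exact le_centralizer_iff.mp h4

/-- The Frattini subgroup of `P`, seen in `X`. -/
abbrev frat (P : Subgroup X) : Subgroup X := (frattini ↥P).map P.subtype

omit [Finite X] in
theorem frat_le (P : Subgroup X) : frat P ≤ P := map_subtype_le _

theorem commutator_le_frat (hP : IsPGroup p P) : ⁅P, P⁆ ≤ frat P := by
  have h4 : ⁅P, P⁆ = (commutator P).map P.subtype := by
    rw [commutator_def, map_commutator, ← MonoidHom.range_eq_map, range_subtype]
  rw [h4]
  exact map_mono (Lib.FrattiniBasic.commutator_le_frattini hP)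

theorem pow_mem_frat (hP : IsPGroup p P) {x : X} (hx : x ∈ P) : x ^ p ∈ frat P :=
  ⟨(⟨x, hx⟩ : P) ^ p, Lib.FrattiniBasic.pow_mem_frattini hP _, rfl⟩

omit hp in
theorem frat_ne (hne : P ≠ ⊥) : frat P ≠ P := by
  intro h
  haveI : Nontrivial P := (Subgroup.nontrivial_iff_ne_bot _).mpr hne
  obtain h2 | ⟨M, hM, -⟩ := eq_top_or_exists_le_coatom (⊥ : Subgroup P)
  · exact absurd h2 bot_ne_top
  apply hM.1
  rw [eq_top_iff]
  intro y _
  have h3 : (y : X) ∈ frat P := by rw [h]; exact y.2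
  obtain ⟨z, hz, hzy⟩ := h3
  rw [← Subtype.ext hzy]
  exact frattini_le_coatom hM hz

omit [Finite X] in
theorem le_normalizer_frat (hBP : B ≤ normalizer (P : Set X)) :
    B ≤ normalizer ((frat P : Subgroup X) : Set X) :=
  le_normalizer_map_of_characteristic hBP (frattini ↥P)

/-- `P` is elementary abelian or special. -/
theorem elementary_or_special (hP : IsPGroup p P) (hBP : B ≤ normalizer (P : Set X)) (hAB : A ≤ B)
    (hAn : B ≤ normalizer (A : Set X)) (hAp : (Nat.card A).Coprime p) (hnt : ⁅P, A⁆ ≠ ⊥)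
    (hmin : ∀ U : Subgroup X, U < P → B ≤ normalizer (U : Set X) → ⁅U, A⁆ = ⊥) :
    Cfsg.IsElementaryAbelian p P ∨ Cfsg.IsSpecial p ↥P := by
  have hPA := commutator_eq hP hBP hAB hAn hAp hnt hmin
  have hPne : P ≠ ⊥ := by
    rintro rfl
    rw [commutator_bot_left] at hnt
    exact hnt rfl
  by_cases hab : ∀ x ∈ P, ∀ y ∈ P, x * y = y * x
  · left
    refine ⟨⟨⟨fun x y => Subtype.ext (hab x x.2 y y.2)⟩⟩, ?_⟩
    let U : Subgroup X :=
      { carrier := {x | x ∈ P ∧ x ^ p = 1}
        one_mem' := ⟨one_mem _, one_pow _⟩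
        mul_mem' := by
          rintro x y ⟨hx, hx'⟩ ⟨hy, hy'⟩
          exact ⟨mul_mem hx hy, by rw [Commute.mul_pow (hab x hx y hy), hx', hy', one_mul]⟩
        inv_mem' := by
          rintro x ⟨hx, hx'⟩
          exact ⟨inv_mem hx, by rw [inv_pow, hx', inv_one]⟩ }
    have hUP : U ≤ P := fun x hx => hx.1
    have hBU : B ≤ normalizer (U : Set X) := by
      apply le_normalizer_of_conj_mem
      intro b hb x hx
      refine ⟨conj_mem_of_le_normalizer hBP hb hx.1, ?_⟩
      rw [conj_pow, hx.2]; group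
    by_cases hU : U = P
    · intro x hx
      rw [← hU] at hx
      exact hx.2
    · exfalso
      have h1 := hmin U (lt_of_le_of_ne hUP hU) hBU
      have hbotn : B ≤ normalizer ((⊥ : Subgroup X) : Set X) := by
        apply le_normalizer_of_conj_mem
        intro a _ x hx
        rw [Subgroup.mem_bot] at hx ⊢
        rw [hx]; group
      have hPP : ⁅P, P⁆ ≤ ⊥ := by
        rw [commutator_le]
        intro x hx y hy
        rw [Subgroup.mem_bot, commutatorElement_eq_one_iff_mul_comm]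
        exact hab x hx y hy
      haveI : Nontrivial P := (Subgroup.nontrivial_iff_ne_bot _).mpr hPne
      obtain ⟨n, hn⟩ := IsPGroup.iff_card.mp hP
      have hn0 : n ≠ 0 := by
        rintro rfl
        have := Finite.one_lt_card (α := P)
        rw [hn, pow_zero] at this
        exact lt_irrefl _ this
      obtain ⟨c, hc⟩ := exists_prime_orderOf_dvd_card' (G := P) p (by rw [hn]; exact dvd_pow_self p hn0)
      have hcU : (c : X) ∈ U := ⟨c.2, by
        have h2 : c ^ p = 1 := by rw [← hc]; exact pow_orderOf_eq_one c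
        have h3 := congrArg Subtype.val h2
        simpa using h3⟩
      have hc1 : (c : X) ∈ (⊥ : Subgroup X) :=
        mem_of_fixed hP hBP hAB hAp hPA bot_le hbotn hPP c.2 fun a ha => by
          have h2 : ⁅(c : X), a⁆ ∈ ⁅U, A⁆ := commutator_mem_commutator hcU ha
          rw [h1] at h2
          exact h2
      rw [Subgroup.mem_bot] at hc1
      have hc2 : c = 1 := Subtype.ext hc1
      rw [hc2, orderOf_one] at hc
      exact hp.out.one_lt.ne hc
  · right
    have hPn : P ≤ normalizer (P : Set X) := le_normalizer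
    -- `Z = Z(P)`
    have hFlt : frat P < P := lt_of_le_of_ne (frat_le P) (frat_ne hPne)
    have hBF : B ≤ normalizer ((frat P : Subgroup X) : Set X) := le_normalizer_frat hBP
    have hFc : frat P ≤ P ⊓ centralizer (P : Set X) :=
      le_inf (frat_le P) (le_centralizer hPA hmin hFlt hBF (le_normalizer_frat hPn))
    have hBZ : B ≤ normalizer ((P ⊓ centralizer (P : Set X) : Subgroup X) : Set X) := by
      rw [← SignalizersComponents.LayerCenter.map_center_eq]
      exact le_normalizer_map_of_characteristic hBP (center ↥P)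
    have hZne : P ⊓ centralizer (P : Set X) ≠ P := by
      intro h
      apply hab
      intro x hx y hy
      have h1 : P ≤ centralizer (P : Set X) := inf_eq_left.mp h
      exact mem_centralizer_iff.mp (h1 hy) x hx
    have hPPF := commutator_le_frat hP
    have hZF : P ⊓ centralizer (P : Set X) = frat P := by
      rcases eq_or_eq hP hBP hAB hAp hPA hmin (frat_le P) hBF hPPF hFc inf_le_left hBZ with h | h
      · exact h
      · exact absurd h hZne
    have hZlt : P ⊓ centralizer (P : Set X) < P := lt_of_le_of_ne inf_le_left hZne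
    have hZA := hmin _ hZlt hBZ
    have hZD : P ⊓ centralizer (P : Set X) = ⁅P, P⁆ := by
      apply le_antisymm
      · intro x hx
        have hPPP : ⁅P, P⁆ ≤ P := commutator_le.mpr fun a ha b hb =>
          mul_mem (mul_mem (mul_mem ha hb) (inv_mem ha)) (inv_mem hb)
        refine mem_of_fixed hP hBP hAB hAp hPA hPPP (le_normalizer_commutator hBP hBP) le_rfl hx.1
          fun a ha => ?_
        have h2 : ⁅x, a⁆ ∈ ⁅P ⊓ centralizer (P : Set X), A⁆ := commutator_mem_commutator hx ha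
        rw [hZA, mem_bot] at h2
        rw [h2]; exact one_mem _
      · rw [hZF]; exact hPPF
    refine ⟨hP, ?_, ?_⟩
    · apply map_injective P.subtype_injective
      rw [SignalizersComponents.LayerCenter.map_center_eq, hZF]
    · apply map_injective P.subtype_injective
      rw [SignalizersComponents.LayerCenter.map_center_eq, hZD]
      rw [_root_.commutator_def, map_commutator, ← MonoidHom.range_eq_map, range_subtype]

/-- `B` acts irreducibly on `P / Φ(P)`. -/
theorem irreducible (hP : IsPGroup p P) (hBP : B ≤ normalizer (P : Set X)) (hAB : A ≤ B)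
    (hAn : B ≤ normalizer (A : Set X)) (hAp : (Nat.card A).Coprime p) (hnt : ⁅P, A⁆ ≠ ⊥)
    (hmin : ∀ U : Subgroup X, U < P → B ≤ normalizer (U : Set X) → ⁅U, A⁆ = ⊥)
    (U : Subgroup X) (hFU : frat P ≤ U) (hUP : U ≤ P) (hBU : B ≤ normalizer (U : Set X)) :
    U = frat P ∨ U = P :=
  eq_or_eq hP hBP hAB hAp (commutator_eq hP hBP hAB hAn hAp hnt hmin) hmin (frat_le P)
    (le_normalizer_frat hBP) (commutator_le_frat hP) hFU hUP hBU

/-- For odd `p`, `P` has exponent `p`. -/
theorem pow_eq_one (hp2 : p ≠ 2) (hP : IsPGroup p P) (hBP : B ≤ normalizer (P : Set X))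
    (hAB : A ≤ B) (hAn : B ≤ normalizer (A : Set X)) (hAp : (Nat.card A).Coprime p)
    (hnt : ⁅P, A⁆ ≠ ⊥)
    (hmin : ∀ U : Subgroup X, U < P → B ≤ normalizer (U : Set X) → ⁅U, A⁆ = ⊥) :
    ∀ x ∈ P, x ^ p = 1 := by
  rcases elementary_or_special hP hBP hAB hAn hAp hnt hmin with h | h
  · exact h.2
  · obtain ⟨-, hF, hC⟩ := h
    have hcen : ∀ z : P, z ∈ center P → ∀ y ∈ P, Commute (z : X) y := by
      intro z hz y hy
      exact (congrArg Subtype.val (mem_center_iff.mp hz ⟨y, hy⟩)).symm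
    have hU : closure {x : X | x ∈ P ∧ x ^ p = 1} = P := by
      by_contra hne
      have hle : closure {x : X | x ∈ P ∧ x ^ p = 1} ≤ P := by
        rw [closure_le]; rintro x ⟨hx, -⟩; exact hx
      have h1 := hmin _ (lt_of_le_of_ne hle hne) (le_normalizer_closure_pow p hBP)
      apply hnt
      rw [commutator_eq_bot_iff_le_centralizer]
      rw [le_centralizer_iff]
      refine Lib.CoprimeStab.le_centralizer_of_omega p hp2 A hAp P hP (hAB.trans hBP) ?_
      intro x hx hxp a ha
      have h2 : ⁅x, a⁆ ∈ ⁅closure {x : X | x ∈ P ∧ x ^ p = 1}, A⁆ :=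
        commutator_mem_commutator (Subgroup.subset_closure ⟨hx, hxp⟩) ha
      rw [h1, mem_bot] at h2
      exact commutatorElement_eq_one_iff_commute.mp h2
    have hmem : ∀ x ∈ closure {x : X | x ∈ P ∧ x ^ p = 1}, x ∈ P ∧ x ^ p = 1 := by
      intro x hx
      induction hx using closure_induction with
      | mem x hx => exact hx
      | one => exact ⟨one_mem _, one_pow _⟩
      | mul x y _ _ hx hy =>
        obtain ⟨hx, hx'⟩ := hx
        obtain ⟨hy, hy'⟩ := hy
        refine ⟨mul_mem hx hy, ?_⟩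
        have hc : ⁅(⟨y, hy⟩ : P), (⟨x, hx⟩ : P)⁆ ∈ center P := by
          rw [← hC]
          exact commutator_mem_commutator (mem_top _) (mem_top _)
        have h3 := hcen _ hc
        rw [Lib.CoprimeStab.mul_pow_prime_of_class_two hp.out hp2 (h3 x hx) (h3 y hy)
          (by rw [hx']; exact Commute.one_left _), hx', hy', one_mul]
      | inv x _ hx => exact ⟨inv_mem hx.1, by rw [inv_pow, hx.2, inv_one]⟩
    intro x hx
    rw [← hU] at hx
    exact (hmem x hx).2

end Main

end Cfsg.Agent.H440.MinimalAction
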