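import Cfsg.Prelude.Def_Transfer
import Cfsg.Prelude.Def_LocalEven
import Cfsg.Agent.H440.MinimalAction
import Cfsg.Agent.SignalizersComponents.CoprimeGen
import Cfsg.Agent.PLocal.S4FreeNoS3

/-!
# An element `a` with `[V, a] ≤ ⟨a⟩` (towards cyclic normal subgroups of Sylow `p`-subgroups)

`V` is a self-centralising normal elementary abelian `p`-subgroup, `Q` a `p'`-subgroup, `a = o n` with
`o ∈ V` and `n` normalising `Q`, and `[V, a] ≤ ⟨a⟩`.  If `p` is odd (or `p = 2` and the group has no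
section `S₄`) then `n` centralises `Q`.
-/

set_option autoImplicit false
set_option linter.style.haveILetI false

namespace Cfsg.Agent.H440.CyclicNormal

open Subgroup
open scoped commutatorElement
open Cfsg.Agent.SignalizersComponents.GoldschmidtGen (le_normalizer_of_conj_mem
  conj_mem_of_le_normalizer le_normalizer_sup le_normalizer_of_commutator_le)
open Cfsg.Agent.SignalizersComponents.CoprimeGen (actTriv mem_actTriv)

universe u

/-- Two transvections `τ`, `σ` with `(σ τ) ^ 4 ≠ 1` generate an `S₃` on their centres. -/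
theorem two_transvections {V : Type*} [CommGroup V] (hV : ∀ v : V, v * v = 1) (τ σ : MulAut V)
    (c d : V) (hτ : ∀ v, τ v = v ∨ τ v = v * c) (hσ : ∀ v, σ v = v ∨ σ v = v * d)
    (hτc : τ c = c) (hσd : σ d = d) (hne : (σ * τ) ^ 4 ≠ 1) :
    c ≠ 1 ∧ d ≠ 1 ∧ c ≠ d ∧ σ c = c * d ∧ τ d = d * c := by
  have hc2 : c * c = 1 := hV c
  have hd2 : d * d = 1 := hV d
  -- if `(σ τ) ^ 2` is trivial on `c` and `d` then `(σ τ) ^ 4 = 1`
  have key : (σ * τ) ((σ * τ) c) = c → (σ * τ) ((σ * τ) d) = d → (σ * τ) ^ 4 = 1 := by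
    intro h1 h2
    have h3 : ∀ v, ∃ w, (σ * τ) v = v * w ∧ (σ * τ) ((σ * τ) w) = w := by
      intro v
      have e1 : (σ * τ) v = σ (τ v) := rfl
      rcases hτ v with h | h
      · rcases hσ v with h' | h'
        · exact ⟨1, by rw [e1, h, h', mul_one], by simp⟩
        · exact ⟨d, by rw [e1, h, h'], h2⟩
      · rcases hσ (v * c) with h' | h'
        · exact ⟨c, by rw [e1, h, h'], h1⟩
        · exact ⟨c * d, by rw [e1, h, h', mul_assoc], by rw [map_mul, map_mul, h1, h2]⟩
    ext v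
    have e2 : ((σ * τ) ^ 4) v = (σ * τ) ((σ * τ) ((σ * τ) ((σ * τ) v))) := by
      simp only [pow_succ, pow_zero, one_mul, MulAut.mul_apply]
    obtain ⟨w, hw, hw2⟩ := h3 v
    obtain ⟨w', hw', hw2'⟩ := h3 w
    rw [e2, MulAut.one_apply]
    have s2 : (σ * τ) ((σ * τ) v) = v * (w * (w * w')) := by
      rw [hw, map_mul, hw, hw', mul_assoc]
    have s2' : (σ * τ) ((σ * τ) v) = v * w' := by
      rw [s2, ← mul_assoc w w w', hV w, one_mul]
    rw [s2', map_mul, map_mul, s2', hw2', mul_assoc, hV w', mul_one]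
  have hσc : σ c = c * d := by
    rcases hσ c with h | h
    · exfalso
      apply hne
      have e1 : (σ * τ) c = c := by
        show σ (τ c) = c
        rw [hτc, h]
      have e2 : (σ * τ) d = d ∨ (σ * τ) d = d * c := by
        rcases hτ d with h' | h'
        · left; show σ (τ d) = d; rw [h', hσd]
        · right; show σ (τ d) = d * c; rw [h', map_mul, hσd, h]
      apply key
      · rw [e1, e1]
      · rcases e2 with e2 | e2
        · rw [e2, e2]
        · rw [e2, map_mul, e2, e1, mul_assoc, hc2, mul_one]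
    · exact h
  have hτd : τ d = d * c := by
    rcases hτ d with h | h
    · exfalso
      apply hne
      have e1 : (σ * τ) d = d := by
        show σ (τ d) = d
        rw [h, hσd]
      have e2 : (σ * τ) c = c * d := by
        show σ (τ c) = c * d
        rw [hτc, hσc]
      apply key
      · rw [e2, map_mul, e2, e1, mul_assoc, hd2, mul_one]
      · rw [e1, e1]
    · exact h
  have hc1 : c ≠ 1 := by
    rintro rfl
    rw [map_one, one_mul] at hσc
    rw [← hσc, map_one, one_mul] at hτd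
    apply hne
    apply key
    · simp
    · rw [← hσc]; simp
  have hd1 : d ≠ 1 := by
    rintro rfl
    rw [map_one, one_mul] at hτd
    exact hc1 hτd.symm
  refine ⟨hc1, hd1, ?_, hσc, hτd⟩
  rintro rfl
  rw [hτc, hc2] at hτd
  exact hc1 hτd

section Core

variable {Y : Type u} [Group Y] [Finite Y] {p : ℕ} [hp : Fact p.Prime] {V Q : Subgroup Y}

omit [Finite Y] in
/-- Powers of `a` in `V` are powers of `a ^ p`. -/
theorem zpow_mem_of_mem {a : Y} (hap : a ^ p ∈ V) (haV : a ∉ V) (i : ℤ) (hi : a ^ i ∈ V) :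
    a ^ i ∈ zpowers (a ^ p) := by
  by_cases hdvd : (p : ℤ) ∣ i
  · obtain ⟨j, rfl⟩ := hdvd
    rw [zpow_mul, zpow_natCast]
    exact zpow_mem (mem_zpowers _) j
  · exfalso
    apply haV
    have hcop : IsCoprime (p : ℤ) i :=
      ((Nat.prime_iff_prime_int.1 hp.out).coprime_iff_not_dvd).2 hdvd
    obtain ⟨u, w, huw⟩ := hcop
    have h1 : a = (a ^ p) ^ u * (a ^ i) ^ w := by
      rw [← zpow_natCast, ← zpow_mul, ← zpow_mul, ← zpow_add, mul_comm _ u, mul_comm _ w, huw,
        zpow_one]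
    rw [h1]
    exact mul_mem (zpow_mem hap u) (zpow_mem hi w)

/-- The main lemma. -/
theorem core [hVn : V.Normal] (hV : Cfsg.IsElementaryAbelian p V)
    (hCV : centralizer (V : Set Y) ≤ V) (hQp : (Nat.card Q).Coprime p)
    {a n o : Y} (ho : o ∈ V) (hao : a = o * n) (hnQ : n ∈ normalizer (Q : Set Y))
    (hVa : ∀ v ∈ V, ⁅v, a⁆ ∈ zpowers a)
    (h : p ≠ 2 ∨ ¬ Cfsg.Involves (Equiv.Perm (Fin 4)) Y) :
    ∀ x ∈ Q, x * n = n * x := by
  classical
  have hVc : ∀ v ∈ V, ∀ w ∈ V, v * w = w * v := fun v hv w hw =>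
    congrArg Subtype.val (hV.1.is_comm.comm (⟨v, hv⟩ : V) ⟨w, hw⟩)
  haveI : Finite V := inferInstance
  have hVp : IsPGroup p V := fun v => ⟨1, by
    apply Subtype.ext; rw [pow_one]; exact hV.2 v v.2⟩
  have hcopQV : (Nat.card Q).Coprime (Nat.card V) := by
    obtain ⟨k, hk⟩ := IsPGroup.iff_card.mp hVp
    rw [hk]; exact Nat.Coprime.pow_right k hQp
  have hQV : Q ⊓ V = ⊥ := (Subgroup.disjoint_of_coprime_natCard hcopQV).eq_bot
  have hconj : ∀ v ∈ V, ∀ g : Y, g * v * g⁻¹ ∈ V := fun v hv g => hVn.conj_mem v hv g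
  have hQnV : Q ≤ normalizer (V : Set Y) := by rw [normalizer_eq_top]; exact le_top
  have hn : n = o⁻¹ * a := by rw [hao]; group
  have haV' : ∀ v ∈ V, ⁅v, a⁆ ∈ V := by
    intro v hv
    have h1 : ⁅v, a⁆ = v * (a * v⁻¹ * a⁻¹) := by simp only [commutatorElement_def]; group
    rw [h1]
    exact mul_mem hv (hconj _ (inv_mem hv) a)
  -- the case `a ∈ V`
  by_cases haV : a ∈ V
  · have hnV : n ∈ V := by rw [hn]; exact mul_mem (inv_mem ho) haV
    intro x hx
    have h1 : ⁅x, n⁆ ∈ Q ⊓ V := by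
      refine mem_inf.mpr ⟨?_, ?_⟩
      · have h2 : ⁅x, n⁆ = x * (n * x⁻¹ * n⁻¹) := by simp only [commutatorElement_def]; group
        rw [h2]
        exact mul_mem hx ((mem_normalizer_iff.mp hnQ _).mp (inv_mem hx))
      · have h2 : ⁅x, n⁆ = (x * n * x⁻¹) * n⁻¹ := by simp only [commutatorElement_def]
        rw [h2]
        exact mul_mem (hconj n hnV x) (inv_mem hnV)
    rw [hQV, mem_bot, commutatorElement_eq_one_iff_mul_comm] at h1
    exact h1
  -- commutation with `a`
  have hza : ∀ v ∈ V, Commute ⁅v, a⁆ a := by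
    intro v hv
    obtain ⟨i, hi⟩ := mem_zpowers_iff.mp (hVa v hv)
    rw [← hi]
    exact Commute.zpow_left (Commute.refl a) i
  have hapV : a ^ p ∈ V := by
    apply hCV
    rw [mem_centralizer_iff]
    intro v hv
    have h1 : v * a * v⁻¹ = ⁅v, a⁆ * a := by simp only [commutatorElement_def]; group
    have h2 : v * a ^ p * v⁻¹ = a ^ p := by
      rw [← conj_pow, h1, (hza v hv).mul_pow, hV.2 _ (haV' v hv), one_mul]
    calc v * a ^ p = (v * a ^ p * v⁻¹) * v := by group
      _ = a ^ p * v := by rw [h2]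
  have hVaT : ∀ v ∈ V, ⁅v, a⁆ ∈ zpowers (a ^ p) := by
    intro v hv
    obtain ⟨i, hi⟩ := mem_zpowers_iff.mp (hVa v hv)
    have h1 := haV' v hv
    rw [← hi] at h1 ⊢
    exact zpow_mem_of_mem hapV haV i h1
  -- `n` acts on `V` as `a` does
  have hVn' : ∀ v ∈ V, n * v * n⁻¹ = a * v * a⁻¹ := by
    intro v hv
    have h1 := hVc _ (inv_mem ho) _ (hconj v hv a)
    calc n * v * n⁻¹ = o⁻¹ * (a * v * a⁻¹) * o := by rw [hn]; group
      _ = (a * v * a⁻¹) * o⁻¹ * o := by rw [h1]
      _ = a * v * a⁻¹ := by group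
  have hTV : zpowers (a ^ p) ≤ V := by rw [zpowers_le]; exact hapV
  by_cases hp2 : p ≠ 2
  · -- `a ^ p = n ^ p`
    have hz1 : n * o * n⁻¹ * o⁻¹ = ⁅o, a⁆⁻¹ := by
      rw [hVn' o ho]; simp only [commutatorElement_def]; group
    have hzV : ⁅o, a⁆⁻¹ ∈ V := inv_mem (haV' o ho)
    have hpn : a ^ p = n ^ p := by
      have e1 : n * o = ⁅o, a⁆⁻¹ * (o * n) := by rw [← hz1]; group
      have e2 : Commute ⁅o, a⁆⁻¹ o := hVc _ hzV _ ho
      have e3 : Commute ⁅o, a⁆⁻¹ n := by
        rw [hn]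
        exact (Commute.inv_right e2).mul_right (hza o ho).inv_left
      have e4 := Lib.CoprimeStab.mul_pow_class_two e1 e2 e3 p
      rw [← hao] at e4
      rw [e4, hV.2 o ho, one_mul]
      have hdvd : p ∣ p.choose 2 := hp.out.dvd_choose_self (by norm_num)
        (lt_of_le_of_ne hp.out.two_le (Ne.symm hp2))
      obtain ⟨k, hk⟩ := hdvd
      rw [hk, pow_mul, hV.2 _ hzV, one_pow, one_mul]
    -- `a ^ p` centralises `Q`
    have hTQ : zpowers (a ^ p) ≤ centralizer (Q : Set Y) := by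
      rw [zpowers_le, mem_centralizer_iff]
      intro x hx
      have h1 : ⁅x, a ^ p⁆ ∈ Q ⊓ V := by
        refine mem_inf.mpr ⟨?_, ?_⟩
        · have h2 : ⁅x, a ^ p⁆ = x * (a ^ p * x⁻¹ * (a ^ p)⁻¹) := by
            simp only [commutatorElement_def]; group
          rw [h2]
          refine mul_mem hx ((mem_normalizer_iff.mp ?_ _).mp (inv_mem hx))
          rw [hpn]; exact pow_mem hnQ p
        · have h2 : ⁅x, a ^ p⁆ = (x * a ^ p * x⁻¹) * (a ^ p)⁻¹ := by
            simp only [commutatorElement_def]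
          rw [h2]
          exact mul_mem (hconj _ hapV x) (inv_mem hapV)
      rw [hQV, mem_bot, commutatorElement_eq_one_iff_mul_comm] at h1
      exact h1
    -- three subgroups
    have hnact : zpowers n ≤ actTriv (zpowers (a ^ p)) V := by
      rw [zpowers_le, mem_actTriv]
      refine ⟨?_, by rw [normalizer_eq_top]; exact mem_top _, ?_⟩
      · have hcomm : Commute n (a ^ p) := by rw [hpn]; exact (Commute.refl n).pow_right p
        have hle : zpowers n ≤ normalizer ((zpowers (a ^ p) : Subgroup Y) : Set Y) := by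
          apply le_normalizer_of_conj_mem
          intro g hg x hx
          obtain ⟨i, rfl⟩ := mem_zpowers_iff.mp hg
          obtain ⟨j, rfl⟩ := mem_zpowers_iff.mp hx
          have h1 : Commute (n ^ i) ((a ^ p) ^ j) := (hcomm.zpow_left i).zpow_right j
          rw [h1.eq, mul_assoc, mul_inv_cancel, mul_one]
          exact zpow_mem (mem_zpowers _) j
        exact hle (mem_zpowers n)
      · intro v hv
        have h1 : ⁅n, v⁆ = ⁅v, a⁆⁻¹ := by
          have : ⁅n, v⁆ = (n * v * n⁻¹) * v⁻¹ := by simp only [commutatorElement_def]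
          rw [this, hVn' v hv]; simp only [commutatorElement_def]; group
        rw [h1]
        exact inv_mem (hVaT v hv)
    have hNV : ⁅zpowers n, V⁆ ≤ zpowers (a ^ p) := by
      rw [commutator_le]
      intro g hg v hv
      exact (hnact hg).2.2 v hv
    have hNV2 : ⁅zpowers n, V⁆ ≤ V ⊓ centralizer (Q : Set Y) := hNV.trans (le_inf hTV hTQ)
    have hNQ : zpowers n ≤ normalizer (Q : Set Y) := by rw [zpowers_le]; exact hnQ
    have hNnV : zpowers n ≤ normalizer (V : Set Y) := by rw [normalizer_eq_top]; exact le_top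
    have t1 : ⁅⁅zpowers n, V⁆, Q⁆ = ⊥ := by
      rw [commutator_eq_bot_iff_le_centralizer]
      exact hNV2.trans inf_le_right
    have hVQV : ⁅V, Q⁆ ≤ V := Lib.CoprimeCommutator.commutator_le_left hQnV
    have t2 : ⁅⁅V, Q⁆, zpowers n⁆ = ⊥ := by
      rw [eq_bot_iff, ← Lib.CoprimeAbelian.inf_commutator_eq_bot Q V hVc hQnV hcopQV]
      refine le_inf ?_ ?_
      · refine le_trans ?_ hNV2
        rw [commutator_comm (zpowers n) V]
        exact commutator_mono hVQV le_rfl
      · exact Lib.CoprimeCommutator.commutator_le_left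
          (MinimalAction.le_normalizer_commutator hNnV hNQ)
    have t3 : ⁅⁅Q, zpowers n⁆, V⁆ = ⊥ := commutator_commutator_eq_bot_of_rotate t1 t2
    have t4 : ⁅Q, zpowers n⁆ ≤ Q ⊓ V := by
      refine le_inf (Lib.CoprimeCommutator.commutator_le_left hNQ) ?_
      rw [commutator_eq_bot_iff_le_centralizer] at t3
      exact t3.trans hCV
    intro x hx
    have h1 := t4 (commutator_mem_commutator hx (mem_zpowers n))
    rw [hQV, mem_bot, commutatorElement_eq_one_iff_mul_comm] at h1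
    exact h1
  · -- `p = 2`
    intro x hx
    by_contra hxn
    rw [not_not] at hp2
    have h4 : ¬ Cfsg.Involves (Equiv.Perm (Fin 4)) Y := by
      rcases h with h | h
      · exact absurd hp2 h
      · exact h
    have hV2 : ∀ v : V, v * v = 1 := by
      intro v
      apply Subtype.ext
      have h1 := hV.2 v v.2
      rw [hp2, pow_two] at h1
      exact h1
    letI : CommGroup V := { (inferInstance : Group V) with mul_comm := hV.1.is_comm.comm }
    let φ : Y →* MulAut V := MulAut.conjNormal (H := V)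
    have hφ : ∀ (g : Y) (v : V), ((φ g v : V) : Y) = g * v * g⁻¹ := fun g v => rfl
    have hS3 : PLocal.SFourOffender.NoS3 φ :=
      PLocal.S4FreeNoS3.noS3_of_normal h4 hV2 (MulEquiv.refl V) φ (fun _ _ => rfl)
    have hyQ : ⁅x, n⁆ ∈ Q := by
      have h2 : ⁅x, n⁆ = x * (n * x⁻¹ * n⁻¹) := by simp only [commutatorElement_def]; group
      rw [h2]
      exact mul_mem hx ((mem_normalizer_iff.mp hnQ _).mp (inv_mem hx))
    have hy1 : ⁅x, n⁆ ≠ 1 := by
      intro h1
      rw [commutatorElement_eq_one_iff_mul_comm] at h1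
      exact hxn h1
    set c : Y := a ^ p with hc
    have hτ : ∀ v : V, φ n v = v ∨ φ n v = v * ⟨c, hapV⟩ := by
      intro v
      obtain ⟨i, hi⟩ := mem_zpowers_iff.mp (hVaT v v.2)
      have h1 : ((φ n v : V) : Y) = (v : Y) * (c ^ i)⁻¹ := by
        rw [hφ, hVn' v v.2, hi]
        have h2 : a * (v : Y) * a⁻¹ = ⁅(v : Y), a⁆⁻¹ * v := by
          simp only [commutatorElement_def]; group
        rw [h2]
        exact hVc _ (inv_mem (haV' v v.2)) v v.2
      have hc2 : c * c = 1 := congrArg Subtype.val (hV2 ⟨c, hapV⟩)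
      rcases Int.even_or_odd' i with ⟨j, hj | hj⟩
      · left
        apply Subtype.ext
        rw [h1, hj, zpow_mul, zpow_two, hc2, one_zpow, inv_one, mul_one]
      · right
        apply Subtype.ext
        rw [h1, hj, zpow_add, zpow_mul, zpow_two, hc2, one_zpow, one_mul, zpow_one,
          inv_eq_of_mul_eq_one_left hc2]
        rfl
    have hτc : φ n ⟨c, hapV⟩ = ⟨c, hapV⟩ := by
      apply Subtype.ext
      rw [hφ, hVn' c hapV]
      have : a * c = c * a := ((Commute.refl a).pow_right p).eq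
      show a * c * a⁻¹ = c
      rw [this]; group
    have hd : x * c * x⁻¹ ∈ V := hconj c hapV x
    set m : Y := x * n * x⁻¹ with hm
    have hφm : ∀ v, φ m v = φ x (φ n (φ x⁻¹ v)) := by
      intro v
      rw [hm, map_mul, map_mul, MulAut.mul_apply, MulAut.mul_apply]
    have hxx : ∀ v, φ x (φ x⁻¹ v) = v := by
      intro v
      rw [← MulAut.mul_apply, ← map_mul, mul_inv_cancel, map_one, MulAut.one_apply]
    have hφd : φ x ⟨c, hapV⟩ = ⟨x * c * x⁻¹, hd⟩ := rfl
    have hσ : ∀ v : V, φ m v = v ∨ φ m v = v * ⟨x * c * x⁻¹, hd⟩ := by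
      intro v
      rcases hτ (φ x⁻¹ v) with h1 | h1
      · left; rw [hφm, h1, hxx]
      · right; rw [hφm, h1, map_mul, hxx, hφd]
    have hσd : φ m ⟨x * c * x⁻¹, hd⟩ = ⟨x * c * x⁻¹, hd⟩ := by
      have h2 : φ x⁻¹ ⟨x * c * x⁻¹, hd⟩ = ⟨c, hapV⟩ := by
        rw [← hφd, ← MulAut.mul_apply, ← map_mul, inv_mul_cancel, map_one, MulAut.one_apply]
      rw [hφm, h2, hτc, hφd]
    have hcard : ∀ k : ℕ, φ (⁅x, n⁆ ^ k) = 1 → ⁅x, n⁆ ^ k = 1 := by
      intro k hk
      have h1 : ⁅x, n⁆ ^ k ∈ Q ⊓ V := by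
        refine ⟨pow_mem hyQ k, hCV ?_⟩
        rw [mem_centralizer_iff]
        intro v hv
        have h2 : φ (⁅x, n⁆ ^ k) ⟨v, hv⟩ = ⟨v, hv⟩ := by rw [hk, MulAut.one_apply]
        have h3 := congrArg Subtype.val h2
        rw [hφ] at h3
        calc v * ⁅x, n⁆ ^ k = (⁅x, n⁆ ^ k * v * (⁅x, n⁆ ^ k)⁻¹) * ⁅x, n⁆ ^ k := by
              rw [show (⁅x, n⁆ ^ k * v * (⁅x, n⁆ ^ k)⁻¹) = v from h3]
          _ = ⁅x, n⁆ ^ k * v := by group
      rw [hQV, mem_bot] at h1
      exact h1
    have hτ2 : φ n * φ n = 1 := by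
      ext v
      rw [MulAut.mul_apply, MulAut.one_apply]
      have hc2 : (⟨c, hapV⟩ : V) * ⟨c, hapV⟩ = 1 := hV2 ⟨c, hapV⟩
      rcases hτ v with h1 | h1
      · rw [h1, h1]
      · rw [h1, map_mul, h1, hτc, mul_assoc, hc2, mul_one]
    have hne : (φ m * φ n) ^ 4 ≠ 1 := by
      intro h4
      have h1 : φ m * φ n = φ ⁅x, n⁆ := by
        have h2 : φ n = (φ n)⁻¹ := (inv_eq_of_mul_eq_one_left hτ2).symm
        have h3 : ⁅x, n⁆ = m * n⁻¹ := by simp only [hm, commutatorElement_def]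
        calc φ m * φ n = φ m * (φ n)⁻¹ := by rw [← h2]
          _ = φ m * φ n⁻¹ := by rw [map_inv φ n]
          _ = φ (m * n⁻¹) := (map_mul φ m n⁻¹).symm
          _ = φ ⁅x, n⁆ := by rw [h3]
      rw [h1, ← map_pow] at h4
      have h5 := hcard 4 h4
      apply hy1
      have h6 : orderOf ⁅x, n⁆ ∣ 4 := orderOf_dvd_of_pow_eq_one h5
      have h7 : orderOf ⁅x, n⁆ ∣ Nat.card Q := Lib.CoprimeStab.orderOf_dvd_natCard_of_mem hyQ
      have h8 : (Nat.card Q).Coprime 4 := by
        rw [hp2] at hQp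
        exact Nat.Coprime.pow_right 2 hQp
      have h9 : orderOf ⁅x, n⁆ ∣ 1 := by
        rw [← Nat.Coprime.gcd_eq_one h8]
        exact Nat.dvd_gcd h7 h6
      rw [Nat.dvd_one, orderOf_eq_one_iff] at h9
      exact h9
    obtain ⟨hc1, hd1, hcd, e1, e2⟩ := two_transvections hV2 (φ n) (φ m) ⟨c, hapV⟩
      ⟨x * c * x⁻¹, hd⟩ hτ hσ hτc hσd hne
    exact PLocal.SFourOffender.not_noS3 (φ := φ) (v := ⟨c, hapV⟩) (w := ⟨x * c * x⁻¹, hd⟩)
      (a := m) (b := n) (hV2 _) (hV2 _) hc1 hd1 hcd e1 hσd e2 hτc hS3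

end Core

end Cfsg.Agent.H440.CyclicNormal
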