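import Cfsg.Prelude.Def_Local
import Cfsg.Agent.H440.CyclicNormal
import Cfsg.Agent.Lib.Cores
import Cfsg.Agent.Lib.Involves
import Cfsg.Agent.S0029
import Cfsg.Agent.Solvable.Glauberman
import Cfsg.Agent.PLocal.Constrained
import Cfsg.Agent.PLocal.HallHigmanPrime
import Cfsg.Agent.PLocal.PSolvable

/-!
# Cyclic normal subgroups of Sylow `p`-subgroups of `p`-solvable groups
-/

set_option autoImplicit false
set_option linter.style.haveILetI false

namespace Cfsg.Agent.H440.CyclicNormalMain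

open Subgroup
open scoped commutatorElement
open Cfsg.Agent.SignalizersComponents.GoldschmidtGen (le_normalizer_of_conj_mem
  conj_mem_of_le_normalizer le_normalizer_sup le_normalizer_of_commutator_le)
open Cfsg.Agent.H440.MinimalAction (frat frat_le commutator_le_frat pow_mem_frat)

universe u

variable {X : Type u} [Group X]

/-- A finite group all of whose elements of order prime to `p` are trivial is a `p`-group. -/
theorem isPGroup_of_coprime [Finite X] {p : ℕ} [hp : Fact p.Prime] {C : Subgroup X}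
    (h : ∀ x ∈ C, (orderOf x).Coprime p → x = 1) : IsPGroup p C := by
  intro x
  refine ⟨(orderOf (x : X)).factorization p, ?_⟩
  apply Subtype.ext
  rw [Subgroup.coe_pow, Subgroup.coe_one]
  apply h _ (C.pow_mem x.2 _)
  rw [orderOf_pow' (x : X) (pow_ne_zero _ hp.out.ne_zero)]
  have h1 : Nat.gcd (orderOf (x : X)) (p ^ (orderOf (x : X)).factorization p) =
      p ^ (orderOf (x : X)).factorization p := Nat.gcd_eq_right (Nat.ordProj_dvd _ _)
  rw [h1]
  exact (Nat.coprime_ordCompl hp.out (orderOf_pos (x : X)).ne').symm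

variable [Finite X] {p : ℕ} [hp : Fact p.Prime]

/-- If `C_X(O_p(X)) ≤ O_p(X)`, the elements centralising `O_p(X)` modulo its Frattini subgroup are
in `O_p(X)`. -/
theorem mem_pCore_of_frattini (hC : centralizer (Cfsg.pCore p X : Set X) ≤ Cfsg.pCore p X) {x : X}
    (hx : ∀ o ∈ Cfsg.pCore p X, ⁅x, o⁆ ∈ frat (Cfsg.pCore p X)) : x ∈ Cfsg.pCore p X := by
  haveI hOn : (Cfsg.pCore p X).Normal := Lib.Cores.pCore_normal p
  set O := Cfsg.pCore p X with hO
  have hOp : IsPGroup p O := Lib.Cores.pCore_isPGroup p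
  have hFn : (frat O).Normal := by
    rw [← normalizer_eq_top_iff, eq_top_iff]
    have h1 : (⊤ : Subgroup X) ≤ normalizer (O : Set X) := by rw [normalizer_eq_top]
    exact MinimalAction.le_normalizer_frat h1
  let C : Subgroup X :=
    { carrier := {x | ∀ o ∈ O, ⁅x, o⁆ ∈ frat O}
      one_mem' := fun o _ => by simp
      mul_mem' := by
        intro x y hx hy o ho
        have h1 : ⁅x * y, o⁆ = x * ⁅y, o⁆ * x⁻¹ * ⁅x, o⁆ := by
          simp only [commutatorElement_def]; group
        rw [h1]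
        exact mul_mem (hFn.conj_mem _ (hy o ho) x) (hx o ho)
      inv_mem' := by
        intro x hx o ho
        have h1 : ⁅x⁻¹, o⁆ = x⁻¹ * ⁅x, o⁆⁻¹ * x⁻¹⁻¹ := by
          simp only [commutatorElement_def]; group
        rw [h1]
        exact hFn.conj_mem _ (inv_mem (hx o ho)) _ }
  have hCn : C.Normal := by
    refine ⟨fun n hn g o ho => ?_⟩
    have h1 : ⁅g * n * g⁻¹, o⁆ = g * ⁅n, g⁻¹ * o * g⁻¹⁻¹⁆ * g⁻¹ := by
      simp only [commutatorElement_def]; group
    rw [h1]
    exact hFn.conj_mem _ (hn _ (hOn.conj_mem o ho g⁻¹)) g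
  have hCp : IsPGroup p C := by
    apply isPGroup_of_coprime
    intro y hy hyp
    have h1 : zpowers y ≤ centralizer (O : Set X) := by
      refine S0029.result (zpowers y) O (by rw [normalizer_eq_top]; exact le_top) ?_ ?_
      · rw [Nat.card_zpowers]
        obtain ⟨k, hk⟩ := IsPGroup.iff_card.mp (hOp.to_subgroup (frattini ↥O))
        rw [hk]
        exact Nat.Coprime.pow_right k hyp
      · intro a ha k hk
        have ha' : a ∈ C := (zpowers_le.mpr hy) ha
        have := ha' k hk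
        rwa [commutatorElement_def] at this
    have h2 : y ∈ O := hC (h1 (mem_zpowers y))
    obtain ⟨k, hk⟩ := hOp ⟨y, h2⟩
    have h3 : y ^ p ^ k = 1 := by simpa using congrArg Subtype.val hk
    have h4 : orderOf y ∣ p ^ k := orderOf_dvd_of_pow_eq_one h3
    have h5 : orderOf y = 1 := Nat.eq_one_of_dvd_coprimes (Nat.Coprime.pow_right k hyp) dvd_rfl h4
    exact orderOf_eq_one_iff.mp h5
  exact Lib.Cores.le_pCore hCn hCp hx

/-- The case `O_{p'}(X) = 1`. -/
theorem le_pCore (hX : Cfsg.IsPSolvable p X) (hO' : Cfsg.pPrimeCore p X = ⊥) (P : Sylow p X)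
    (A : Subgroup X) (hAP : A ≤ (P : Subgroup X)) (hAn : (P : Subgroup X) ≤ normalizer (A : Set X))
    (hA : IsCyclic A) (h : p ≠ 2 ∨ ¬ Cfsg.Involves (Equiv.Perm (Fin 4)) X) :
    A ≤ Cfsg.pCore p X := by
  classical
  have hCO : centralizer (Cfsg.pCore p X : Set X) ≤ Cfsg.pCore p X :=
    PLocal.Constrained.centralizer_pCore_le hO' (PLocal.PSolvable.isPSolvable_subgroup hX _)
  haveI hOn : (Cfsg.pCore p X).Normal := Lib.Cores.pCore_normal p
  have hmemO := fun x => mem_pCore_of_frattini (p := p) (X := X) hCO (x := x)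
  set O := Cfsg.pCore p X with hO
  have hOp : IsPGroup p O := Lib.Cores.pCore_isPGroup p
  have hOP : O ≤ (P : Subgroup X) := Lib.Cores.pCore_le_sylow P
  haveI hFn : (frat O).Normal := by
    rw [← normalizer_eq_top_iff, eq_top_iff]
    have h1 : (⊤ : Subgroup X) ≤ normalizer (O : Set X) := by rw [normalizer_eq_top]
    exact MinimalAction.le_normalizer_frat h1
  -- the generator
  obtain ⟨g₀, hg₀⟩ := hA.exists_generator
  set a : X := (g₀ : X) with ha
  have haA : a ∈ A := g₀.2
  have hAa : ∀ x ∈ A, x ∈ zpowers a := by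
    intro x hx
    obtain ⟨k, hk⟩ := mem_zpowers_iff.mp (hg₀ ⟨x, hx⟩)
    rw [mem_zpowers_iff]
    exact ⟨k, by simpa using congrArg Subtype.val hk⟩
  suffices haO : a ∈ O by
    intro x hx
    exact (zpowers_le.mpr haO) (hAa x hx)
  -- the complement `Q`
  let K : Subgroup X := (Cfsg.pPrimeCore p (X ⧸ O)).comap (QuotientGroup.mk' O)
  haveI hKn' : (Cfsg.pPrimeCore p (X ⧸ O)).Normal := Lib.Cores.pPrimeCore_normal p
  have hKn : K.Normal := hKn'.comap _
  have hOK : O ≤ K := by
    intro x hx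
    show QuotientGroup.mk' O x ∈ Cfsg.pPrimeCore p (X ⧸ O)
    have : QuotientGroup.mk' O x = 1 := (QuotientGroup.eq_one_iff x).mpr hx
    rw [this]; exact one_mem _
  haveI hOKn : (O.subgroupOf K).Normal := inferInstance
  have hKmap : K.map (QuotientGroup.mk' O) = Cfsg.pPrimeCore p (X ⧸ O) :=
    map_comap_eq_self_of_surjective (QuotientGroup.mk'_surjective O) _
  have hidx : (O.subgroupOf K).index = Nat.card (Cfsg.pPrimeCore p (X ⧸ O)) := by
    have h1 := relIndex_ker (K := K) (QuotientGroup.mk' O)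
    rw [QuotientGroup.ker_mk', hKmap] at h1
    exact h1
  have hcopO : ∀ m : ℕ, m.Coprime p → m.Coprime (Nat.card O) := by
    intro m hm
    obtain ⟨k, hk⟩ := IsPGroup.iff_card.mp hOp
    rw [hk]; exact Nat.Coprime.pow_right k hm
  have hcop : (Nat.card (O.subgroupOf K)).Coprime (O.subgroupOf K).index := by
    rw [hidx, Nat.card_congr (subgroupOfEquivOfLe hOK).toEquiv]
    exact (hcopO _ (Lib.Cores.pPrimeCore_coprime p)).symm
  obtain ⟨Q₀, hQ₀⟩ := exists_right_complement'_of_coprime hcop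
  set Q : Subgroup X := Q₀.map K.subtype with hQ
  have hQK : Q ≤ K := map_subtype_le _
  have hQcard : Nat.card Q = Nat.card (Cfsg.pPrimeCore p (X ⧸ O)) := by
    rw [← hidx, hQ₀.symm.index_eq_card]
    exact Nat.card_congr (Q₀.equivMapOfInjective K.subtype K.subtype_injective).toEquiv.symm
  have hQp : (Nat.card Q).Coprime p := by
    rw [hQcard]; exact Lib.Cores.pPrimeCore_coprime p
  have hQO : Q ⊔ O = K := by
    have h1 := hQ₀.sup_eq_top
    have h2 := congrArg (fun S => S.map K.subtype) h1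
    simp only [Subgroup.map_sup, subgroupOf_map_subtype, ← MonoidHom.range_eq_map, range_subtype] at h2
    rw [inf_eq_left.mpr hOK, sup_comm] at h2
    exact h2
  have hnO : ∀ S : Subgroup X, S ≤ normalizer (O : Set X) := fun S => by
    rw [normalizer_eq_top]; exact le_top
  have hOs : Group.IsSolvable O := by
    haveI := hOp.isNilpotent
    infer_instance
  -- `a = o n`
  obtain ⟨o, ho, hoQ⟩ := Solvable.Glauberman.exists_conj_of_le_sup Q O (hnO Q) (hcopO _ hQp)
    (Or.inr hOs) (Q.map (MulAut.conj a).toMonoidHom) (by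
      rw [hQO]
      rintro _ ⟨q, hq, rfl⟩
      exact hKn.conj_mem q (hQK hq) a) (by
      exact Nat.card_congr (Q.equivMapOfInjective _ (MulAut.conj a).injective).toEquiv.symm)
  set n : X := o⁻¹ * a with hn
  have hao : a = o * n := by rw [hn]; group
  have hnQ : n ∈ normalizer (Q : Set X) := by
    have hle : ∀ q ∈ Q, n * q * n⁻¹ ∈ Q := by
      intro q hq
      have h1 : a * q * a⁻¹ ∈ Q.map (MulAut.conj a).toMonoidHom := ⟨q, hq, rfl⟩
      have h2 : Q.map (MulAut.conj a).toMonoidHom = Q.map (MulAut.conj o).toMonoidHom := hoQ.symm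
      rw [h2] at h1
      obtain ⟨r, hr, hr'⟩ := h1
      have h3 : o * r * o⁻¹ = a * q * a⁻¹ := hr'
      have h4 : n * q * n⁻¹ = r := by
        calc n * q * n⁻¹ = o⁻¹ * (a * q * a⁻¹) * o := by rw [hn]; group
          _ = o⁻¹ * (o * r * o⁻¹) * o := by rw [h3]
          _ = r := by group
      rw [h4]; exact hr
    rw [mem_normalizer_iff]
    intro q
    constructor
    · exact hle q
    · intro hq
      have h1 : Q.map (MulAut.conj n).toMonoidHom = Q := by
        apply eq_of_le_of_card_ge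
        · rintro _ ⟨q, hq, rfl⟩
          exact hle q hq
        · exact (Nat.card_congr (Q.equivMapOfInjective _ (MulAut.conj n).injective).toEquiv).le
      have h2 : n * q * n⁻¹ ∈ Q.map (MulAut.conj n).toMonoidHom := by rw [h1]; exact hq
      obtain ⟨r, hr, hr'⟩ := h2
      have h3 : n * r * n⁻¹ = n * q * n⁻¹ := hr'
      have h4 : r = q := by
        have := congrArg (fun z => n⁻¹ * z * n) h3
        simpa [mul_assoc] using this
      rw [← h4]; exact hr
  -- the quotient `X / Φ(O)`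
  let π : X →* X ⧸ frat O := QuotientGroup.mk' (frat O)
  have hπs : Function.Surjective π := QuotientGroup.mk'_surjective _
  have hπ1 : ∀ x : X, π x = 1 ↔ x ∈ frat O := fun x => QuotientGroup.eq_one_iff x
  have hFO : frat O ≤ O := frat_le O
  haveI hVn : (O.map π).Normal := hOn.map π hπs
  have hV : Cfsg.IsElementaryAbelian p (O.map π) := by
    refine ⟨⟨⟨?_⟩⟩, ?_⟩
    · rintro ⟨_, x, hx, rfl⟩ ⟨_, y, hy, rfl⟩
      apply Subtype.ext
      show π x * π y = π y * π x
      rw [← commutatorElement_eq_one_iff_mul_comm, ← map_commutatorElement, hπ1]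
      exact commutator_le_frat hOp (commutator_mem_commutator hx hy)
    · rintro _ ⟨x, hx, rfl⟩
      rw [← map_pow, hπ1]
      exact pow_mem_frat hOp hx
  have hCV : centralizer ((O.map π : Subgroup _) : Set (X ⧸ frat O)) ≤ O.map π := by
    intro y hy
    obtain ⟨x, rfl⟩ := hπs y
    refine ⟨x, hmemO x fun u hu => ?_, rfl⟩
    rw [← hπ1, map_commutatorElement, commutatorElement_eq_one_iff_mul_comm]
    exact (mem_centralizer_iff.mp hy (π u) ⟨u, hu, rfl⟩).symm
  have hQp' : (Nat.card (Q.map π)).Coprime p :=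
    Nat.Coprime.coprime_dvd_left (card_map_dvd Q π) hQp
  have hnQ' : π n ∈ normalizer ((Q.map π : Subgroup _) : Set (X ⧸ frat O)) := by
    have hle : (zpowers n).map π ≤ normalizer ((Q.map π : Subgroup _) : Set (X ⧸ frat O)) := by
      apply le_normalizer_of_conj_mem
      rintro _ ⟨m, hm, rfl⟩ _ ⟨q, hq, rfl⟩
      refine ⟨m * q * m⁻¹, ?_, by rw [map_mul, map_mul, map_inv]⟩
      exact conj_mem_of_le_normalizer (zpowers_le.mpr hnQ) hm hq
    exact hle ⟨n, mem_zpowers n, rfl⟩
  have hVa : ∀ v ∈ O.map π, ⁅v, π a⁆ ∈ zpowers (π a) := by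
    rintro _ ⟨u, hu, rfl⟩
    have h1 : ⁅u, a⁆ ∈ A := by
      rw [commutatorElement_def]
      exact mul_mem (conj_mem_of_le_normalizer hAn (hOP hu) haA) (inv_mem haA)
    obtain ⟨k, hk⟩ := mem_zpowers_iff.mp (hAa _ h1)
    rw [← map_commutatorElement, ← hk, map_zpow]
    exact zpow_mem (mem_zpowers _) k
  have h' : p ≠ 2 ∨ ¬ Cfsg.Involves (Equiv.Perm (Fin 4)) (X ⧸ frat O) := by
    rcases h with h | h
    · exact Or.inl h
    · right
      intro hinv
      apply h
      have h1 : Lib.Involves.Involves (X ⧸ frat O) (Equiv.Perm (Fin 4)) :=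
        Lib.Involves.involves_iff.mpr hinv
      exact Lib.Involves.involves_iff.mp (Lib.Involves.of_quotient h1)
  have hcore := CyclicNormal.core (p := p) (V := O.map π) (Q := Q.map π) hV hCV hQp'
    (a := π a) (n := π n) (o := π o) ⟨o, ho, rfl⟩ (by rw [← map_mul, ← hao]) hnQ' hVa h'
  have hQn : ∀ q ∈ Q, ⁅q, n⁆ ∈ O := by
    intro q hq
    apply hFO
    rw [← hπ1, map_commutatorElement, commutatorElement_eq_one_iff_mul_comm]
    exact hcore (π q) ⟨q, hq, rfl⟩
  -- conclusion in `X / O`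
  let ρ : X →* X ⧸ O := QuotientGroup.mk' O
  have hρ1 : ∀ x : X, ρ x = 1 ↔ x ∈ O := fun x => QuotientGroup.eq_one_iff x
  have hρo : ρ o = 1 := (hρ1 o).mpr ho
  have hρa : ρ a = ρ n := by
    conv_lhs => rw [hao]
    rw [map_mul, hρo, one_mul]
  have hcent : ρ a ∈ centralizer (Cfsg.pPrimeCore p (X ⧸ O) : Set (X ⧸ O)) := by
    rw [mem_centralizer_iff, ← hKmap]
    rintro _ ⟨k, hk, rfl⟩
    have hk' : k ∈ Q ⊔ O := by rw [hQO]; exact hk
    rw [sup_comm, Cfsg.Agent.SignalizersComponents.CoprimeBasic.mem_sup_iff (hnO Q)] at hk'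
    obtain ⟨u, hu, q, hq, rfl⟩ := hk'
    have h1 : ρ (u * q) = ρ q := by rw [map_mul, (hρ1 u).mpr hu, one_mul]
    show ρ (u * q) * ρ a = ρ a * ρ (u * q)
    rw [h1, hρa, ← commutatorElement_eq_one_iff_mul_comm, ← map_commutatorElement, hρ1]
    exact hQn q hq
  have hO1 : Cfsg.pCore p (X ⧸ O) = ⊥ := Lib.Cores.pCore_quotient_pCore p
  have h3 := PLocal.HallHigmanPrime.centralizer_pPrimeCore_le_of_pSolvable p
    (PLocal.PSolvable.isPSolvable_quotient hX O) hO1 hcent
  -- `ρ a` is a `p`-element of a `p'`-group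
  obtain ⟨k, hk⟩ := P.isPGroup' ⟨a, hAP haA⟩
  have hk' : a ^ p ^ k = 1 := by simpa using congrArg Subtype.val hk
  have h4 : orderOf (ρ a) ∣ p ^ k := orderOf_dvd_of_pow_eq_one (by rw [← map_pow, hk', map_one])
  have h5 : orderOf (ρ a) ∣ Nat.card (Cfsg.pPrimeCore p (X ⧸ O)) :=
    Lib.CoprimeStab.orderOf_dvd_natCard_of_mem h3
  have h6 : orderOf (ρ a) = 1 := Nat.eq_one_of_dvd_coprimes
    (Nat.Coprime.pow_right k (Lib.Cores.pPrimeCore_coprime p)) h5 h4
  rw [← hρ1]
  exact orderOf_eq_one_iff.mp h6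

end Cfsg.Agent.H440.CyclicNormalMain
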